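import Cfsg.Agent.Fi22.J23b
import Cfsg.Agent.F3W.J23

/-!
# Type M(23), without the joint centraliser: the tenth transposition

(the arguments are those of `Cfsg.Agent.Fi22.J23b`)
-/

set_option autoImplicit false
set_option linter.unusedSectionVars false
set_option linter.unusedSimpArgs false

namespace Cfsg.Agent.F3W

open Finset Cfsg.Agent.Uni Cfsg.Agent.Fi22 Cfsg.Agent.ThreeTransp

variable {G : Type*} [Group G] {D : Set G}

namespace W23

variable [Finite G] (hM : W23 D)

include hM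

theorem del_perp {a o : G} (ha : a ∈ D) (ho : o ∈ perp D a) {c e h δ p q d : G}
    (hl : IsFact D 7 1 [a, c, e, h, δ, p, q]) (hp : ∀ s ∈ [c, e, h, δ, p, q], s ∈ perp D o) (hd : d ∈ perp D a)
    (hdo : d ∈ perp D o) (dc : ¬ Commute d c) (de : ¬ Commute d e) (dh : ¬ Commute d h)
    (hδ : δ = d * (h * (e * (c * d * c⁻¹) * e⁻¹) * h⁻¹) * d⁻¹) : Commute d p ∧ Commute d q := by
  have H := hM.desc ha
  obtain ⟨pt, F⟩ := H.down hl
  simp only [List.map_cons, List.map_nil] at F
  have Pc := pt c (by simp)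
  have Pe := pt e (by simp)
  have Ph := pt h (by simp)
  have Pp := pt p (by simp)
  have Pq := pt q (by simp)
  obtain ⟨p1, q1⟩ := H.conj Pc hd
  obtain ⟨p2, q2⟩ := H.conj Pe p1
  obtain ⟨p3, q3⟩ := H.conj Ph p2
  obtain ⟨p4, q4⟩ := H.conj hd p3
  rw [← hδ] at p4 q4
  obtain ⟨k1, k2⟩ := (hM.all ha).del_perp (Desc.mem ho) F (by
      intro s hs
      have : s ∈ [c, e, h, δ, p, q].map (qφ D a) := by simpa using hs
      obtain ⟨s', hs', rfl⟩ := List.mem_map.1 this
      exact (H.perp_iff ho (pt s' hs')).2 (hp s' hs')) ((H.perp_iff ho hd).2 hdo)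
      (fun h => dc ((H.comm hd Pc).1 h)) (fun h => de ((H.comm hd Pe).1 h)) (fun h => dh ((H.comm hd Ph).1 h))
      (by rw [q4, q3, q2, q1])
  exact ⟨(H.comm hd Pp).1 k1, (H.comm hd Pq).1 k2⟩

variable {z a b c d e f g h i δ : G} (Y : Yc D z a b c d e f g h i δ)

include Y

theorem l7_facts : ∃ y y', IsFact D 7 1 [z, a, c, e, g, y, y'] ∧ z ≠ a ∧ z ≠ c ∧ z ≠ e ∧ z ≠ g ∧ a ≠ c ∧ a ≠ e ∧
    a ≠ g ∧ c ≠ e ∧ c ≠ g ∧ e ≠ g ∧ i ∉ [z, a, c, e, g, y, y'] := by
  obtain ⟨y, y', hl7, -⟩ := Y.hex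
  have hnd := hl7.1
  simp only [List.nodup_cons, List.mem_cons, List.not_mem_nil, or_false, not_or, List.nodup_nil, and_true,
    not_false_eq_true] at hnd
  obtain ⟨⟨nza, nzc, nze, nzg, -⟩, ⟨nac, nae, nag, -⟩, ⟨nce, ncg, -⟩, ⟨neg, -⟩, -⟩ := hnd
  refine ⟨y, y', hl7, nza, nzc, nze, nzg, nac, nae, nag, nce, ncg, neg, ?_⟩
  intro hi
  have h1 : ∀ s ∈ [z, a, c, e, g, y, y'], Commute h s := by
    refine hM.sys.all _ [z, a, c, e] h hl7 (by simp [nza, nzc, nze, nac, nae, nce]) rfl (by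
      intro x hx
      simp only [List.mem_cons, List.not_mem_nil, or_false] at hx ⊢
      rcases hx with rfl | rfl | rfl | rfl <;> simp) Y.ph.1 ?_
    intro x hx
    simp only [List.mem_cons, List.not_mem_nil, or_false] at hx
    rcases hx with rfl | rfl | rfl | rfl
    · exact Y.ph.2.2.symm
    · exact Y.ah.symm
    · exact Y.ch.symm
    · exact Y.eh.symm
  exact Y.hi (h1 i hi)

/-- the first transposition -/
theorem exists_x1 : ∃ x ∈ perp D i, ¬ Commute x z ∧ Commute x a ∧ Commute x b ∧ Commute x c ∧ Commute x d ∧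
    Commute x e ∧ Commute x f := by
  have S := hM.sys
  obtain ⟨y, y', hl7, nza, nzc, nze, nzg, nac, nae, nag, nce, ncg, neg, hi7⟩ := hM.l7_facts Y
  have nia : i ≠ a := ne_of_nc (b := h) Y.ah (fun k => Y.hi k.symm)
  have nic : i ≠ c := ne_of_nc (b := h) Y.ch (fun k => Y.hi k.symm)
  have nie : i ≠ e := ne_of_nc (b := h) Y.eh (fun k => Y.hi k.symm)
  obtain ⟨t, ht⟩ := S.ex [i, a, c, e] (by simp [nia, nic, nie, nac, nae, nce]) rfl
    (by
      intro x hx
      simp only [List.mem_cons, List.not_mem_nil, or_false] at hx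
      rcases hx with rfl | rfl | rfl | rfl
      · exact Y.pi.1
      · exact Y.pa.1
      · exact Y.pc.1
      · exact Y.pe.1)
    (by
      intro x hx y hy
      simp only [List.mem_cons, List.not_mem_nil, or_false] at hx hy
      rcases hx with rfl | rfl | rfl | rfl <;> rcases hy with rfl | rfl | rfl | rfl
      · exact Commute.refl _
      · exact Y.ai.symm
      · exact Y.ci.symm
      · exact Y.ei.symm
      · exact Y.ai
      · exact Commute.refl _
      · exact Y.ac
      · exact Y.ae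
      · exact Y.ci
      · exact Y.ac.symm
      · exact Commute.refl _
      · exact Y.ce
      · exact Y.ei
      · exact Y.ae.symm
      · exact Y.ce.symm
      · exact Commute.refl _)
  set M := [i, a, c, e] ++ t with hMd
  have iM : i ∈ M := by simp [hMd]
  have aM : a ∈ M := by simp [hMd]
  have cM : c ∈ M := by simp [hMd]
  have eM : e ∈ M := by simp [hMd]
  have hzM : z ∉ M := by
    intro hz
    apply hi7
    refine S.ext M _ [z, a, c, e] ht hl7 (by simp [nza, nzc, nze, nac, nae, nce]) rfl ?_ ?_ i iM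
    · intro x hx
      simp only [List.mem_cons, List.not_mem_nil, or_false] at hx
      rcases hx with rfl | rfl | rfl | rfl <;> assumption
    · intro x hx
      simp only [List.mem_cons, List.not_mem_nil, or_false] at hx ⊢
      rcases hx with rfl | rfl | rfl | rfl <;> simp
  have zM : ∀ s ∈ M, Commute z s := by
    refine S.all M [i, a, c, e] z ht (by simp [nia, nic, nie, nac, nae, nce]) rfl ?_ Y.mz ?_
    · intro x hx
      simp only [List.mem_cons, List.not_mem_nil, or_false] at hx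
      rcases hx with rfl | rfl | rfl | rfl <;> assumption
    · intro x hx
      simp only [List.mem_cons, List.not_mem_nil, or_false] at hx
      rcases hx with rfl | rfl | rfl | rfl
      · exact Y.pi.2.2
      · exact Y.pa.2.2
      · exact Y.pc.2.2
      · exact Y.pe.2.2
  have pM : ∀ s ∈ M, s ∈ perp D z := fun s hs => ⟨ht.2.2.1 s hs, fun k => hzM (by rw [← k]; exact hs), zM s hs⟩
  obtain ⟨m1, m1M, m1n, dm1⟩ := S.one M [i, a] d ht (by simp [nia]) rfl (by
      intro x hx
      simp only [List.mem_cons, List.not_mem_nil, or_false] at hx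
      rcases hx with rfl | rfl <;> assumption) Y.pd.1 (by
      intro x hx
      simp only [List.mem_cons, List.not_mem_nil, or_false] at hx
      rcases hx with rfl | rfl
      · exact Y.di
      · exact Y.ad.symm)
  obtain ⟨m2, m2M, m2n, bm2⟩ := S.one M [i, e] b ht (by simp [nie]) rfl (by
      intro x hx
      simp only [List.mem_cons, List.not_mem_nil, or_false] at hx
      rcases hx with rfl | rfl <;> assumption) Y.pb.1 (by
      intro x hx
      simp only [List.mem_cons, List.not_mem_nil, or_false] at hx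
      rcases hx with rfl | rfl
      · exact Y.bi
      · exact Y.be)
  simp only [List.mem_cons, List.not_mem_nil, or_false, not_or] at m1n m2n
  have m1c : m1 ≠ c := by rintro rfl; exact Y.cd dm1.symm
  have m1e : m1 ≠ e := by rintro rfl; exact Y.de dm1
  have m2a : m2 ≠ a := by rintro rfl; exact Y.ab bm2.symm
  have m2c : m2 ≠ c := by rintro rfl; exact Y.bc bm2
  have m12 : m1 ≠ m2 := by
    rintro rfl
    rcases Y.uniq m1 (pM m1 m1M) (ht.2.2.2.1 _ m1M _ iM) (ht.2.2.2.1 _ m1M _ aM) (ht.2.2.2.1 _ m1M _ cM)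
      (ht.2.2.2.1 _ m1M _ eM) bm2.symm dm1.symm with k | k
    · exact m1n.1 k
    · apply hzM
      rw [k] at m1M
      refine S.ext _ M [a, c, e, g] hl7 ht (by simp [nac, nae, nag, nce, ncg, neg]) rfl ?_ ?_ z (by simp)
      · intro x hx
        simp only [List.mem_cons, List.not_mem_nil, or_false] at hx ⊢
        rcases hx with rfl | rfl | rfl | rfl <;> simp
      · intro x hx
        simp only [List.mem_cons, List.not_mem_nil, or_false] at hx
        rcases hx with rfl | rfl | rfl | rfl <;> assumption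
  obtain ⟨u, hu⟩ := perm_front (l := M) (s := [i, a, c, m1, e, m2]) (by
      simp [nia, nic, nie, nac, nae, nce, Ne.symm m1n.1, Ne.symm m1n.2, Ne.symm m1c, m1e, m12, Ne.symm m2n.1,
        Ne.symm m2a, Ne.symm m2c, Ne.symm m2n.2]) (by
      intro x hx
      simp only [List.mem_cons, List.not_mem_nil, or_false] at hx
      rcases hx with rfl | rfl | rfl | rfl | rfl | rfl <;> assumption)
  have hf := fact_permute ht hu
  obtain ⟨m3, rfl⟩ : ∃ m3, u = [m3] := List.length_eq_one_iff.1 (by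
    have := hf.2.1
    rw [List.length_append] at this
    simp only [List.length_cons, List.length_nil] at this
    omega)
  have hperm : [i, a, c, m1, e, m2, m3].Perm [i, a, c, m1, m3, e, m2] :=
    ((((List.perm_append_comm (l₁ := [e, m2]) (l₂ := [m3])).cons _).cons _).cons _).cons _
  have hf2 := fact_permute hf hperm
  have hmem : ∀ s ∈ [a, c, m1, m3, e, m2], s ∈ M := by
    intro s hs
    rw [hu.mem_iff]
    have := hperm.mem_iff.2 (List.mem_cons_of_mem _ hs)
    exact this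
  have npf : f ∈ perp D i := ⟨Y.pf.1, ne_of_nc' (b := h) (fun k => Y.hi k.symm) Y.fh, Y.fi.symm⟩
  have npd : d ∈ perp D i := ⟨Y.pd.1, ne_of_nc (b := c) Y.ci.symm (fun k => Y.cd k.symm), Y.di.symm⟩
  have npb : b ∈ perp D i := ⟨Y.pb.1, ne_of_nc' (b := h) (fun k => Y.hi k.symm) Y.bh, Y.bi.symm⟩
  obtain ⟨x, hx, xz, xs, xf, xd, xb⟩ := hM.exists_far3 Y.pi.1 (perp_symm' Y.mz Y.pi) hf2
    (fun s hs => pM s (hmem s hs)) npf Y.pf npd Y.pd npb Y.pb Y.af.symm Y.cf.symm (fun k => Y.ef k.symm)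
    Y.ad.symm dm1 (fun k => Y.cd k.symm) Y.be bm2 (fun k => Y.ab k.symm) Y.df.symm Y.bf.symm Y.bd.symm
  exact ⟨x, hx, xz, xs a (by simp), xb, xs c (by simp), xd, xs e (by simp), xf⟩

/-- the second transposition -/
theorem exists_x2 {Λ : List G} (hΛ : IsFact D 7 1 Λ) (aΛ : a ∈ Λ) (cΛ : c ∈ Λ) (eΛ : e ∈ Λ) (hΛh : h ∈ Λ)
    (δΛ : δ ∈ Λ) : ∃ x ∈ perp D a, ¬ Commute x z ∧ Commute x c ∧ Commute x d ∧
    Commute x e ∧ Commute x f ∧ Commute x h ∧ Commute x i := by
  have S := hM.sys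
  obtain ⟨y, y', hl7, nza, nzc, nze, nzg, nac, nae, nag, nce, ncg, neg, hi7⟩ := hM.l7_facts Y
  have nah : a ≠ h := ne_of_nc' (b := i) (fun k => Y.hi k) Y.ai
  have nch : c ≠ h := ne_of_nc' (b := i) (fun k => Y.hi k) Y.ci
  have neh : e ≠ h := ne_of_nc' (b := i) (fun k => Y.hi k) Y.ei
  have naδ : a ≠ δ := ne_of_nc' (b := i) Y.δi Y.ai
  have ncδ : c ≠ δ := ne_of_nc' (b := i) Y.δi Y.ci
  have neδ : e ≠ δ := ne_of_nc' (b := i) Y.δi Y.ei
  have hzΛ : z ∉ Λ := fun hz => Y.nohex Λ hΛ hz cΛ eΛ hΛh δΛ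
  have zΛ : ∀ s ∈ Λ, Commute z s := by
    refine S.all Λ [a, c, e, h] z hΛ (by simp [nac, nae, nah, nce, nch, neh]) rfl ?_ Y.mz ?_
    · intro x hx
      simp only [List.mem_cons, List.not_mem_nil, or_false] at hx
      rcases hx with rfl | rfl | rfl | rfl <;> assumption
    · intro x hx
      simp only [List.mem_cons, List.not_mem_nil, or_false] at hx
      rcases hx with rfl | rfl | rfl | rfl
      · exact Y.pa.2.2
      · exact Y.pc.2.2
      · exact Y.pe.2.2
      · exact Y.ph.2.2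
  have pΛ : ∀ s ∈ Λ, s ∈ perp D z := fun s hs => ⟨hΛ.2.2.1 s hs, fun k => hzΛ (by rw [← k]; exact hs), zΛ s hs⟩
  obtain ⟨u, hu⟩ := perm_front (l := Λ) (s := [a, c, e, h, δ]) (by
      simp [nac, nae, nah, naδ, nce, nch, ncδ, neh, neδ, Ne.symm Y.δH]) (by
      intro x hx
      simp only [List.mem_cons, List.not_mem_nil, or_false] at hx
      rcases hx with rfl | rfl | rfl | rfl | rfl <;> assumption)
  have hf := fact_permute hΛ hu
  obtain ⟨m5, m6, rfl⟩ : ∃ m5 m6, u = [m5, m6] := List.length_eq_two.1 (by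
    have := hf.2.1
    rw [List.length_append] at this
    simp only [List.length_cons, List.length_nil] at this
    omega)
  have hf2 : IsFact D 7 1 [a, c, e, h, δ, m5, m6] := hf
  have hmem : ∀ s ∈ [c, e, h, δ, m5, m6], s ∈ Λ := fun s hs => hu.mem_iff.2 (List.mem_cons_of_mem _ hs)
  have npi : i ∈ perp D a := ⟨Y.pi.1, ne_of_nc (b := h) Y.ah (fun k => Y.hi k.symm), Y.ai⟩
  have npd : d ∈ perp D a := ⟨Y.pd.1, ne_of_nc (b := c) Y.ac (fun k => Y.cd k.symm), Y.ad⟩
  have npf : f ∈ perp D a := ⟨Y.pf.1, ne_of_nc' (b := b) Y.ab Y.bf.symm, Y.af⟩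
  have paz : z ∈ perp D a := perp_symm' Y.mz Y.pa
  obtain ⟨d5, d6⟩ := hM.del_perp Y.pa.1 paz hf2 (fun s hs => pΛ s (hmem s hs)) npd Y.pd
    (fun k => Y.cd k.symm) Y.de Y.dh Y.δe
  have i5 : ¬ Commute i m5 := by
    intro k
    have hnd := hf2.1
    simp only [List.nodup_cons, List.mem_cons, List.not_mem_nil, or_false, not_or, List.nodup_nil, and_true,
      not_false_eq_true] at hnd
    obtain ⟨⟨-, -, -, -, na5, -⟩, ⟨-, -, -, nc5, -⟩, ⟨-, -, ne5, -⟩, -⟩ := hnd
    have h1 := S.all _ [a, c, e, m5] i hf2 (by simp [nac, nae, nce, na5, nc5, ne5]) rfl (by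
      intro x hx
      simp only [List.mem_cons, List.not_mem_nil, or_false] at hx ⊢
      rcases hx with rfl | rfl | rfl | rfl <;> simp) Y.pi.1 (by
      intro x hx
      simp only [List.mem_cons, List.not_mem_nil, or_false] at hx
      rcases hx with rfl | rfl | rfl | rfl
      · exact Y.ai.symm
      · exact Y.ci.symm
      · exact Y.ei.symm
      · exact k) h (by simp)
    exact Y.hi h1.symm
  obtain ⟨x, hx, xz, xs, xi, xf, xd⟩ := hM.exists_far3 Y.pa.1 paz hf2 (fun s hs => pΛ s (hmem s hs)) npi Y.pi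
    npf Y.pf npd Y.pd Y.ci.symm Y.ei.symm i5 Y.cf.symm Y.fh (fun k => Y.ef k.symm) d5 d6 (fun k => Y.cd k.symm)
    Y.fi.symm Y.di.symm Y.df.symm
  exact ⟨x, hx, xz, xs c (by simp), xd, xs e (by simp), xf, xs h (by simp), xi⟩

/-- the tenth transposition -/
theorem exists_j {Λ : List G} (hΛ : IsFact D 7 1 Λ) (aΛ : a ∈ Λ) (cΛ : c ∈ Λ) (eΛ : e ∈ Λ) (hΛh : h ∈ Λ)
    (δΛ : δ ∈ Λ) : ∃ j ∈ D, ¬ Commute j z ∧ Commute j a ∧ Commute j b ∧ Commute j c ∧ Commute j d ∧
    Commute j e ∧ Commute j f ∧ ¬ Commute j g ∧ Commute j h ∧ Commute j i := by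
  have S := hM.sys
  obtain ⟨y, y', hl7, nza, nzc, nze, nzg, nac, nae, nag, nce, ncg, neg, hi7⟩ := hM.l7_facts Y
  obtain ⟨x, hx, xz, xa, xb, xc, xd, xe, xf⟩ := hM.exists_x1 Y
  obtain ⟨v, hv, vz, vc, vd, ve, vf, vh, vi⟩ := hM.exists_x2 Y hΛ aΛ cΛ eΛ hΛh δΛ
  have nia : i ≠ a := ne_of_nc (b := h) Y.ah (fun k => Y.hi k.symm)
  have nic : i ≠ c := ne_of_nc (b := h) Y.ch (fun k => Y.hi k.symm)
  have nie : i ≠ e := ne_of_nc (b := h) Y.eh (fun k => Y.hi k.symm)
  have niz : i ≠ z := Y.pi.2.1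
  obtain ⟨t, ht⟩ := S.ex [i, c, e, z] (by simp [nic, nie, niz, nce, Ne.symm nzc, Ne.symm nze]) rfl
    (by
      intro x hx
      simp only [List.mem_cons, List.not_mem_nil, or_false] at hx
      rcases hx with rfl | rfl | rfl | rfl
      · exact Y.pi.1
      · exact Y.pc.1
      · exact Y.pe.1
      · exact Y.mz)
    (by
      intro x hx y hy
      simp only [List.mem_cons, List.not_mem_nil, or_false] at hx hy
      rcases hx with rfl | rfl | rfl | rfl <;> rcases hy with rfl | rfl | rfl | rfl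
      · exact Commute.refl _
      · exact Y.ci.symm
      · exact Y.ei.symm
      · exact Y.pi.2.2.symm
      · exact Y.ci
      · exact Commute.refl _
      · exact Y.ce
      · exact Y.pc.2.2.symm
      · exact Y.ei
      · exact Y.ce.symm
      · exact Commute.refl _
      · exact Y.pe.2.2.symm
      · exact Y.pi.2.2
      · exact Y.pc.2.2
      · exact Y.pe.2.2
      · exact Commute.refl _)
  obtain ⟨p, q, r, rfl⟩ : ∃ p q r, t = [p, q, r] := List.length_eq_three.1 (by
    have := ht.2.1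
    rw [List.length_append] at this
    simp only [List.length_cons, List.length_nil] at this
    omega)
  have ht' : IsFact D 7 1 [i, c, e, z, p, q, r] := ht
  have ha : a ∉ [i, c, e, z, p, q, r] := by
    intro h1
    apply hi7
    refine S.ext _ _ [z, a, c, e] ht' hl7 (by simp [nza, nzc, nze, nac, nae, nce]) rfl ?_ ?_ i (by simp)
    · intro x hx
      simp only [List.mem_cons, List.not_mem_nil, or_false] at hx
      rcases hx with rfl | rfl | rfl | rfl
      · simp
      · exact h1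
      · simp
      · simp
    · intro x hx
      simp only [List.mem_cons, List.not_mem_nil, or_false] at hx ⊢
      rcases hx with rfl | rfl | rfl | rfl <;> simp
  have aT : ∀ s ∈ [i, c, e, z, p, q, r], Commute a s := by
    refine S.all _ [i, c, e, z] a ht' (by simp [nic, nie, niz, nce, Ne.symm nzc, Ne.symm nze]) rfl ?_ Y.pa.1 ?_
    · intro x hx
      simp only [List.mem_cons, List.not_mem_nil, or_false] at hx ⊢
      rcases hx with rfl | rfl | rfl | rfl <;> simp
    · intro x hx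
      simp only [List.mem_cons, List.not_mem_nil, or_false] at hx
      rcases hx with rfl | rfl | rfl | rfl
      · exact Y.ai
      · exact Y.ac
      · exact Y.ae
      · exact Y.pa.2.2.symm
  have npf : f ∈ perp D i := ⟨Y.pf.1, ne_of_nc' (b := h) (fun k => Y.hi k.symm) Y.fh, Y.fi.symm⟩
  have npd : d ∈ perp D i := ⟨Y.pd.1, ne_of_nc (b := c) Y.ci.symm (fun k => Y.cd k.symm), Y.di.symm⟩
  have apf : f ∈ perp D a := ⟨Y.pf.1, ne_of_nc' (b := b) Y.ab Y.bf.symm, Y.af⟩
  have apd : d ∈ perp D a := ⟨Y.pd.1, ne_of_nc (b := c) Y.ac (fun k => Y.cd k.symm), Y.ad⟩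
  have pai : a ∈ perp D i := ⟨Y.pa.1, Ne.symm nia, Y.ai.symm⟩
  have xpa : x ∈ perp D a := ⟨hx.1, ne_of_nc (b := z) Y.pa.2.2.symm xz, xa.symm⟩
  have vpi : v ∈ perp D i := ⟨hv.1, ne_of_nc (b := z) Y.pi.2.2.symm vz, vi.symm⟩
  have key := hM.glue Y.pi.1 pai ht' (by
      intro s hs
      refine ⟨ht'.2.2.1 s (List.mem_cons_of_mem _ hs), fun k => ha (by rw [← k]; exact List.mem_cons_of_mem _ hs),
        aT s (List.mem_cons_of_mem _ hs)⟩) hx xpa vpi hv npf apf npd apd xc xe xz vc ve vz Y.cf.symm Y.pf.2.2.symm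
      xf.symm vf.symm (fun k => Y.ef k.symm) Y.pd.2.2.symm xd.symm vd.symm (fun k => Y.cd k.symm)
  have xh : Commute x h := by
    rcases key with k | k
    · rw [← k]; exact vh
    · have e1 : x = z⁻¹ * v * z := by rw [k]; group
      rw [e1]
      exact (Y.ph.2.2.inv_left.mul_left vh).mul_left Y.ph.2.2
  refine ⟨x, hx.1, xz, xa, xb, xc, xd, xe, xf, ?_, xh, hx.2.2.symm⟩
  intro xg
  apply xz
  refine S.all _ [a, c, e, g] x hl7 (by simp [nac, nae, nag, nce, ncg, neg]) rfl ?_ hx.1 ?_ z (by simp)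
  · intro x hx
    simp only [List.mem_cons, List.not_mem_nil, or_false] at hx ⊢
    rcases hx with rfl | rfl | rfl | rfl <;> simp
  · intro y hy
    simp only [List.mem_cons, List.not_mem_nil, or_false] at hy
    rcases hy with rfl | rfl | rfl | rfl <;> assumption

end W23

end Cfsg.Agent.F3W
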