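import Cfsg.Agent.Fi22.Top4
import Cfsg.Agent.F3W.Oct

/-!
# Type M(23), without the joint centraliser: coordinates

(the arguments are those of `Cfsg.Agent.Fi22.Top4`)
-/

set_option autoImplicit false
set_option linter.unusedSectionVars false
set_option linter.unusedSimpArgs false

namespace Cfsg.Agent.F3W

open Finset Cfsg.Agent.Uni Cfsg.Agent.Fi22 Cfsg.Agent.ThreeTransp

variable {G : Type*} [Group G] {D : Set G}

open Matrix Module

variable [Finite G]

namespace W23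

variable (h : W23 D) {x y : G} (hx : x ∈ D) (hy : y ∈ perp D x)
include h hx hy

theorem exists_pd : ∃ (F : Type) (_ : Field F) (_ : Fintype F), Nonempty (PD (perp D x ∩ perp D y) ({x} ∪ {y}) F) := by
  obtain ⟨e₀, he₀, hae₀⟩ := h.core.nc x hx
  have hy' : qφ D x y ∈ qperp D x := by rw [qφ_eq hy]; exact qm_mem hy
  obtain ⟨F, i1, i2, ⟨Δ⟩⟩ := (h.all hx).exists_pd hy'
  obtain ⟨Δ'⟩ := Δ.up h.cls h.irr hx he₀ hae₀ (h.high.cp x hx) (h.high.self hx) (fun z hz => hz.1)
    (Set.singleton_subset_iff.2 hy')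
  rw [LS_perp h.cls h.irr hx he₀ hae₀ hy, LS_singleton h.cls h.irr hx he₀ hae₀ hy] at Δ'
  exact ⟨F, i1, i2, ⟨Δ'⟩⟩

variable {z : G} (hz : z ∈ perp D x ∩ perp D y)
include hz

theorem pair_up : qφ D x z ∈ perp (qperp D x) (qφ D x y) := by
  obtain ⟨e₀, he₀, hae₀⟩ := h.core.nc x hx
  rw [qφ_eq hy, qφ_eq hz.1]
  exact (qm_perp h.cls h.irr hx he₀ hae₀ hy hz.1).2 hz.2

theorem centralizer_three : Subgroup.centralizer ({x} ∪ {y, z}) ≤
    Subgroup.closure ({x} ∪ ({y, z} ∪ (perp D x ∩ perp D y ∩ (perp D x ∩ perp D z)))) := by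
  obtain ⟨e₀, he₀, hae₀⟩ := h.core.nc x hx
  have hy' : qφ D x y ∈ qperp D x := by rw [qφ_eq hy]; exact qm_mem hy
  have hz' := h.pair_up hx hy hz
  have h1 := (h.all hx).centralizer_two hy' hz'
  have h2 := cl_up h.cls h.irr hx he₀ hae₀ (h.centralizer_eq hx) (h.high.cp x hx)
    (T' := {qφ D x y, qφ D x z}) (by
      rintro u (rfl | hu)
      · exact hy'
      · rw [Set.mem_singleton_iff.1 hu]; exact hz'.1) (by
      rintro u ((rfl | hu) | hu)
      · exact hy'
      · rw [Set.mem_singleton_iff.1 hu]; exact hz'.1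
      · exact hu.1.1) h1
  have e1 : LS D x {qφ D x y, qφ D x z} = {y, z} := by
    rw [Set.insert_eq, LS_union, LS_singleton h.cls h.irr hx he₀ hae₀ hy, LS_singleton h.cls h.irr hx he₀ hae₀ hz.1,
      ← Set.insert_eq]
  rw [LS_union, LS_inter h.cls h.irr hx he₀ hae₀, LS_perp h.cls h.irr hx he₀ hae₀ hy,
    LS_perp h.cls h.irr hx he₀ hae₀ hz.1, e1] at h2
  exact h2

theorem card_three : Nat.card G = 31671 * (3510 * 693) * Nat.card (Subgroup.centralizer ({x} ∪ {y, z})) := by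
  obtain ⟨e₀, he₀, hae₀⟩ := h.core.nc x hx
  have hy' : qφ D x y ∈ qperp D x := by rw [qφ_eq hy]; exact qm_mem hy
  have hz' := h.pair_up hx hy hz
  have e1 : LS D x {qφ D x y, qφ D x z} = {y, z} := by
    rw [Set.insert_eq, LS_union, LS_singleton h.cls h.irr hx he₀ hae₀ hy, LS_singleton h.cls h.irr hx he₀ hae₀ hz.1,
      ← Set.insert_eq]
  have h1 := cc_up h.cls h.irr hx he₀ hae₀ (h.centralizer_eq hx) (h.high.cp x hx) (h.high.self hx)
    (T' := {qφ D x y, qφ D x z}) (by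
      rintro u (rfl | hu)
      · exact hy'
      · rw [Set.mem_singleton_iff.1 hu]; exact hz'.1)
  rw [e1] at h1
  have hX := h.all hx
  obtain ⟨f₀, hf₀, hyf₀⟩ := hX.exists_nc' hy'
  have h2 := card_pair hX.cls hX.irr (Classical.decEq _) (by
    have := hX.par
    convert this) hX.card_DF hy' hz' hf₀ hyf₀
  have h3 := card_eq_mul h.cls hx
  rw [h.centralizer_eq hx, h.card_D, card_closure_up h.cls hx (h.high.cp x hx) (h.high.self hx), h2] at h3
  rw [h3, h1]
  ring

end W23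

end Cfsg.Agent.F3W
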