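import Cfsg.Agent.Fi22.Uniq23
import Cfsg.Agent.F3W.J23b

/-!
# Type M(23), without the joint centraliser: uniqueness

(the arguments are those of `Cfsg.Agent.Fi22.Uniq23`)
-/

set_option autoImplicit false
set_option linter.unusedSectionVars false
set_option linter.unusedSimpArgs false

namespace Cfsg.Agent.F3W

open Finset Cfsg.Agent.Uni Cfsg.Agent.Fi22 Cfsg.Agent.ThreeTransp

variable {G : Type*} [Group G] {D : Set G} [Finite G]

theorem W23.ten_of (hM : W23 D) {z a b c d e f g h i δ : G} (Y : Yc D z a b c d e f g h i δ) {Λ : List G}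
    (hΛ : IsFact D 7 1 Λ) (aΛ : a ∈ Λ) (cΛ : c ∈ Λ) (eΛ : e ∈ Λ) (hΛh : h ∈ Λ) (δΛ : δ ∈ Λ) :
    ∃ j, Ten D a b c d e f g j h i := by
  obtain ⟨j, mj, jz, ja, jb, jc, jd, je, jf, jg, jh, ji⟩ := hM.exists_j Y hΛ aΛ cΛ eΛ hΛh δΛ
  refine ⟨j, Y.pa.1, Y.pb.1, Y.pc.1, Y.pd.1, Y.pe.1, Y.pf.1, Y.pg.1, mj, Y.ph.1, Y.pi.1,
    Y.ab, Y.ac, Y.ad, Y.ae, Y.af, Y.ag, ja.symm, Y.ah, Y.ai, Y.bc, Y.bd, Y.be, Y.bf, Y.bg, jb.symm, Y.bh, Y.bi,
    Y.cd, Y.ce, Y.cf, Y.cg, jc.symm, Y.ch, Y.ci, Y.de, Y.df, Y.dg, jd.symm, Y.dh, Y.di, Y.ef, Y.eg, je.symm, Y.eh,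
    Y.ei, Y.fg, jf.symm, Y.fh, Y.fi, (fun k => jg k.symm), Y.gh, Y.gi, jh, ji, Y.hi, Y.R1, ?_⟩
  rcases Y.R2 with k | k
  · exact k
  · exfalso
    apply jz
    rw [← k]
    exact ((((((ja.mul_right jb).mul_right jc).mul_right jd).mul_right je).mul_right jf).mul_right jh).pow_right 9

/-- ten transpositions exist -/
theorem W23.exists_ten (hM : W23 D) : ∃ a b c d e f g j h i : G, Ten D a b c d e f g j h i := by
  obtain ⟨⟨z, hz⟩⟩ := hM.conn.nonempty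
  have H := hM.desc hz
  have hX := hM.all hz
  obtain ⟨K⟩ := hX.exists_conf
  obtain ⟨A⟩ := K.exists_CH hX
  obtain ⟨a, pa, ea⟩ := Desc.lift K.ma
  obtain ⟨b, pb, eb⟩ := Desc.lift K.mb
  obtain ⟨c, pc, ec⟩ := Desc.lift K.mc
  obtain ⟨d, pd, ed⟩ := Desc.lift K.md
  obtain ⟨e, pe, ee⟩ := Desc.lift K.me
  obtain ⟨f, pf, ef⟩ := Desc.lift K.mf
  obtain ⟨g, pg, eg⟩ := Desc.lift K.mg
  obtain ⟨h, ph, eh⟩ := Desc.lift K.hh
  obtain ⟨i, pi, ei⟩ := Desc.lift K.hi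
  have P := A.pk hX
  have P' := A.pk' hX
  rw [← ea, ← eb, ← ec, ← ed, ← ee, ← ef, ← eg, ← eh, ← ei] at P P'
  have Y := hM.yc_of_pk hz pa pb pc pd pe pf pg ph pi rfl P
  have Y' := hM.yc_of_pk hz pg pf pe pd pc pb pa ph pi rfl P'
  have hδ : d * (h * (e * (c * d * c⁻¹) * e⁻¹) * h⁻¹) * d⁻¹ = d * (h * (c * (e * d * e⁻¹) * c⁻¹) * h⁻¹) * d⁻¹ := by
    have h1 : e * (c * d * c⁻¹) * e⁻¹ = (e * c) * d * (e * c)⁻¹ := by group
    have h2 : c * (e * d * e⁻¹) * c⁻¹ = (c * e) * d * (c * e)⁻¹ := by group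
    rw [h1, h2, Y.ce.eq]
  obtain ⟨Λ, hΛ, cΛ, eΛ, hΛh, δΛ, aΛ | gΛ⟩ := hM.alt Y
  · obtain ⟨j, T⟩ := hM.ten_of Y hΛ aΛ cΛ eΛ hΛh δΛ
    exact ⟨_, _, _, _, _, _, _, _, _, _, T⟩
  · rw [hδ] at δΛ
    obtain ⟨j, T⟩ := hM.ten_of Y' hΛ gΛ eΛ cΛ hΛh δΛ
    exact ⟨_, _, _, _, _, _, _, _, _, _, T⟩


/-- a group of type M(23) is isomorphic to the presented group, the members correspond to the conjugates of the
generators -/
theorem W23.exists_iso (hM : W23 D) : ∃ e : G ≃* Cfsg.Spor.Fi23,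
    (∀ x, gX23 x ∈ e '' D) ∧ e '' D = conjugatesOf (gX23 .a) := by
  obtain ⟨a, b, c, d, e, f, g, j, h, i, T⟩ := hM.exists_ten
  set φ : Cfsg.Spor.Fi23 →* G := PresentedGroup.toGroup (T.gen_all hM.cls.1) with hφ
  have hφg : ∀ x, φ (gX23 x) = Ten.gen a b c d e f g j h i x :=
    fun x => PresentedGroup.toGroup.of (T.gen_all hM.cls.1)
  have hs := Cfsg.Agent.CosetEnum.Fi23.fi23_simple
  have hinj : Function.Injective φ := by
    rw [← MonoidHom.ker_eq_bot_iff]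
    rcases hs.eq_bot_or_eq_top_of_normal φ.ker (MonoidHom.normal_ker φ) with h1 | h1
    · exact h1
    · exfalso
      have h2 : gX23 .a ∈ φ.ker := by rw [h1]; trivial
      rw [MonoidHom.mem_ker, hφg] at h2
      have h3 := hM.cls.1.1 _ (T.gen_mem .a)
      rw [h2, orderOf_one] at h3
      omega
  have hbij : Function.Bijective φ := by
    rw [Nat.bijective_iff_injective_and_card]
    refine ⟨hinj, ?_⟩
    rw [Cfsg.Agent.CosetEnum.Fi23.fi23_card, hM.card_G]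
    norm_num
  set e' : G ≃* Cfsg.Spor.Fi23 := (MulEquiv.ofBijective φ hbij).symm with he
  have hee : ∀ x, e' (φ x) = x := fun x => (MulEquiv.ofBijective φ hbij).symm_apply_apply x
  have hex : ∀ x, e' (Ten.gen a b c d e f g j h i x) = gX23 x := by
    intro x
    rw [← hφg, hee]
  refine ⟨e', fun x => ⟨_, T.gen_mem x, hex x⟩, ?_⟩
  ext y
  constructor
  · rintro ⟨z, hz, rfl⟩
    obtain ⟨g', hg⟩ := exists_conj hM.cls (T.gen_mem .a) hz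
    rw [← hg, map_mul, map_mul, map_inv, hex]
    exact isConj_iff.2 ⟨e' g', rfl⟩
  · intro hy
    obtain ⟨g', hg⟩ := isConj_iff.1 (show IsConj (gX23 .a) y from hy)
    refine ⟨e'.symm g' * Ten.gen a b c d e f g j h i .a * (e'.symm g')⁻¹, hM.hconj _ _ (T.gen_mem .a), ?_⟩
    rw [map_mul, map_mul, map_inv, hex, MulEquiv.apply_symm_apply, hg]


end Cfsg.Agent.F3W
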