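import Cfsg.Agent.Fi22.Yc
import Cfsg.Agent.F3W.Sys

/-!
# Type M(23), without the joint centraliser: configuration

(the arguments are those of `Cfsg.Agent.Fi22.Yc`)
-/

set_option autoImplicit false
set_option linter.unusedSectionVars false
set_option linter.unusedSimpArgs false

namespace Cfsg.Agent.F3W

open Finset Cfsg.Agent.Uni Cfsg.Agent.Fi22 Cfsg.Agent.ThreeTransp

variable {G : Type*} [Group G] {D : Set G}

variable [Finite G]

theorem W23.yc_of_pk (hM : W23 D) {z a b c d e f g h i δ : G} (hz : z ∈ D) (pa : a ∈ perp D z) (pb : b ∈ perp D z)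
    (pc : c ∈ perp D z) (pd : d ∈ perp D z) (pe : e ∈ perp D z) (pf : f ∈ perp D z) (pg : g ∈ perp D z)
    (ph : h ∈ perp D z) (pi : i ∈ perp D z) (hδ : δ = d * (h * (e * (c * d * c⁻¹) * e⁻¹) * h⁻¹) * d⁻¹)
    {δq : ↥(Subgroup.closure (perp D z)) ⧸ Subgroup.center ↥(Subgroup.closure (perp D z))}
    (P : Pk (qperp D z) (qφ D z a) (qφ D z b) (qφ D z c) (qφ D z d) (qφ D z e) (qφ D z f) (qφ D z g) (qφ D z h)
      (qφ D z i) δq) : Yc D z a b c d e f g h i δ := by
  have H := hM.desc hz
  have hX := hM.all hz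
  obtain ⟨p1, q1⟩ := H.conj pc pd
  obtain ⟨p2, q2⟩ := H.conj pe p1
  obtain ⟨p3, q3⟩ := H.conj ph p2
  obtain ⟨p4, q4⟩ := H.conj pd p3
  rw [← hδ] at p4 q4
  have hδq : qφ D z δ = δq := by rw [q4, q3, q2, q1]; exact P.δe.symm
  subst hδq
  have hA : IsA6 D c d e h f b i := by
    refine ⟨pc.1, pd.1, pe.1, ph.1, pf.1, pb.1, pi.1, ?_, ?_, ?_, ?_, ?_, ?_, ?_, ?_, ?_, ?_, ?_, ?_, ?_, ?_, ?_, ?_,
      ?_, ?_, ?_, ?_, ?_, ?_⟩
    · rw [← H.comm pc pd]; exact P.cd
    · rw [← H.comm pd pe]; exact P.de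
    · rw [← H.comm pd ph]; exact P.dh
    · rw [← H.comm pe pf]; exact P.ef
    · rw [← H.comm pc pb]; exact fun h => P.bc h.symm
    · rw [← H.comm ph pi]; exact P.hi
    · rw [← H.comm pc pe]; exact P.ce
    · rw [← H.comm pc ph]; exact P.ch
    · rw [← H.comm pc pf]; exact P.cf
    · rw [← H.comm pc pi]; exact P.ci
    · rw [← H.comm pd pf]; exact P.df
    · rw [← H.comm pd pb]; exact P.bd.symm
    · rw [← H.comm pd pi]; exact P.di
    · rw [← H.comm pe ph]; exact P.eh
    · rw [← H.comm pe pb]; exact P.be.symm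
    · rw [← H.comm pe pi]; exact P.ei
    · rw [← H.comm ph pf]; exact P.fh.symm
    · rw [← H.comm ph pb]; exact P.bh.symm
    · rw [← H.comm pf pb]; exact P.bf.symm
    · rw [← H.comm pf pi]; exact P.fi
    · rw [← H.comm pb pi]; exact P.bi
    · intro hc
      apply P.A6.ri
      have h1 := Desc.comm_prod (D := D) (a := z) (x := i)
        (t := [h, d, c, e, b, f, d, h, e, c, d, c, e, h, d, f, b, e, c, d, h]) (by
          intro y hy
          simp only [List.mem_cons, List.not_mem_nil, or_false] at hy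
          rcases hy with rfl | rfl | rfl | rfl | rfl | rfl | rfl | rfl | rfl | rfl | rfl | rfl | rfl | rfl | rfl |
            rfl | rfl | rfl | rfl | rfl | rfl <;> assumption) pi (by
          simp only [List.prod_cons, List.prod_nil, mul_one]
          simpa only [mul_assoc] using hc)
      simp only [List.map_cons, List.map_nil, List.prod_cons, List.prod_nil, mul_one] at h1
      simpa only [mul_assoc] using h1
  refine ⟨hz, pa, pb, pc, pd, pe, pf, pg, ph, pi, p4, ?_, ?_, ?_, ?_, ?_, ?_, ?_, ?_, ?_, ?_, ?_, ?_, ?_, ?_, ?_, ?_,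
    ?_, ?_, ?_, ?_, ?_, ?_, ?_, ?_, ?_, ?_, ?_, ?_, ?_, ?_, ?_, ?_, ?_, ?_, ?_, ?_, hδ, ?_, ?_, ?_, ?_, ?_, ?_, ?_, ?_,
    ?_, ?_, ?_, ?_, ?_, ?_⟩
  · rw [← H.comm pa pb]; exact P.ab
  · rw [← H.comm pb pc]; exact P.bc
  · rw [← H.comm pc pd]; exact P.cd
  · rw [← H.comm pd pe]; exact P.de
  · rw [← H.comm pe pf]; exact P.ef
  · rw [← H.comm pf pg]; exact P.fg
  · rw [← H.comm pd ph]; exact P.dh
  · rw [← H.comm ph pi]; exact P.hi
  · rw [← H.comm pa pc]; exact P.ac
  · rw [← H.comm pa pd]; exact P.ad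
  · rw [← H.comm pa pe]; exact P.ae
  · rw [← H.comm pa pf]; exact P.af
  · rw [← H.comm pa pg]; exact P.ag
  · rw [← H.comm pa ph]; exact P.ah
  · rw [← H.comm pa pi]; exact P.ai
  · rw [← H.comm pb pd]; exact P.bd
  · rw [← H.comm pb pe]; exact P.be
  · rw [← H.comm pb pf]; exact P.bf
  · rw [← H.comm pb pg]; exact P.bg
  · rw [← H.comm pb ph]; exact P.bh
  · rw [← H.comm pb pi]; exact P.bi
  · rw [← H.comm pc pe]; exact P.ce
  · rw [← H.comm pc pf]; exact P.cf
  · rw [← H.comm pc pg]; exact P.cg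
  · rw [← H.comm pc ph]; exact P.ch
  · rw [← H.comm pc pi]; exact P.ci
  · rw [← H.comm pd pf]; exact P.df
  · rw [← H.comm pd pg]; exact P.dg
  · rw [← H.comm pd pi]; exact P.di
  · rw [← H.comm pe pg]; exact P.eg
  · rw [← H.comm pe ph]; exact P.eh
  · rw [← H.comm pe pi]; exact P.ei
  · rw [← H.comm pf ph]; exact P.fh
  · rw [← H.comm pf pi]; exact P.fi
  · rw [← H.comm pg ph]; exact P.gh
  · rw [← H.comm pg pi]; exact P.gi
  · rw [← H.comm p4 pa]; exact P.δa
  · rw [← H.comm p4 pc]; exact P.δc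
  · rw [← H.comm p4 pe]; exact P.δE
  · rw [← H.comm p4 pg]; exact P.δg
  · rw [← H.comm p4 ph]; exact P.δh
  · rw [← H.comm p4 pb]; exact P.δb
  · rw [← H.comm p4 pf]; exact P.δf
  · rw [← H.comm p4 pi]; exact P.δi
  · intro h1; apply P.δH; rw [h1]
  · -- the spider relation
    have h30 := hA.omega3 hM.cls.1 hM.hconj
    have hmem : ∀ y ∈ (List.replicate 10 [d, c, b, d, e, f, d, h, i]).flatten, y ∈ perp D z := by
      intro y hy
      obtain ⟨l, hl, hy⟩ := List.mem_flatten.1 hy
      rw [List.eq_of_mem_replicate hl] at hy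
      simp only [List.mem_cons, List.not_mem_nil, or_false] at hy
      rcases hy with rfl | rfl | rfl | rfl | rfl | rfl | rfl | rfl | rfl <;> assumption
    have e1 : (List.replicate 10 [d, c, b, d, e, f, d, h, i]).flatten.prod = (d * c * b * d * e * f * d * h * i) ^ 10 := by
      rw [List.prod_flatten, List.map_replicate, List.prod_replicate]
      simp only [List.prod_cons, List.prod_nil, mul_one, mul_assoc]
    have e2 : ((List.replicate 10 [d, c, b, d, e, f, d, h, i]).flatten.map (qφ D z)).prod = 1 := by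
      rw [List.map_flatten, List.map_replicate, List.prod_flatten, List.map_replicate, List.prod_replicate, ← P.R1]
      simp only [List.map_cons, List.map_nil, List.prod_cons, List.prod_nil, mul_one, mul_assoc]
    have e3 : (d * c * b * d * e * f * d * h * i) ^ 30 = ((d * c * b * d * e * f * d * h * i) ^ 10) ^ 3 := by
      rw [← pow_mul]
    rcases H.prod_eq_one hmem e2 with h1 | h1
    · rw [← e1]; exact h1
    · exfalso
      rw [e1] at h1
      rw [e3, h1] at h30
      have h2 := mul_self hM.cls.1 hz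
      have h3 : z = 1 := by
        calc z = z ^ 3 := by rw [pow_succ, pow_two, h2, one_mul]
          _ = 1 := h30
      have h4 := hM.cls.1.1 _ hz
      rw [h3, orderOf_one] at h4
      omega
  · have hmem : ∀ y ∈ (List.replicate 9 [a, b, c, d, e, f, h]).flatten, y ∈ perp D z := by
      intro y hy
      obtain ⟨l, hl, hy⟩ := List.mem_flatten.1 hy
      rw [List.eq_of_mem_replicate hl] at hy
      simp only [List.mem_cons, List.not_mem_nil, or_false] at hy
      rcases hy with rfl | rfl | rfl | rfl | rfl | rfl | rfl <;> assumption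
    have e1 : (List.replicate 9 [a, b, c, d, e, f, h]).flatten.prod = (a * b * c * d * e * f * h) ^ 9 := by
      rw [List.prod_flatten, List.map_replicate, List.prod_replicate]
      simp only [List.prod_cons, List.prod_nil, mul_one, mul_assoc]
    have e2 : ((List.replicate 9 [a, b, c, d, e, f, h]).flatten.map (qφ D z)).prod = 1 := by
      rw [List.map_flatten, List.map_replicate, List.prod_flatten, List.map_replicate, List.prod_replicate, ← P.R2]
      simp only [List.map_cons, List.map_nil, List.prod_cons, List.prod_nil, mul_one, mul_assoc]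
    rw [← e1]
    exact H.prod_eq_one hmem e2
  · -- the heptads
    obtain ⟨y, y', hl, hm⟩ := P.hex
    obtain ⟨t, ht, ht2, ht3⟩ := H.fact_lift hl
    obtain ⟨t1, t2, t3, t4, t5, t6, rfl⟩ : ∃ t1 t2 t3 t4 t5 t6, t = [t1, t2, t3, t4, t5, t6] := by
      have h6 := congrArg List.length ht2
      match t, h6 with
      | [t1, t2, t3, t4, t5, t6], _ => exact ⟨t1, t2, t3, t4, t5, t6, rfl⟩
    simp only [List.map_cons, List.map_nil, List.cons.injEq, and_true] at ht2
    obtain ⟨s1, s2, s3, s4, s5, s6⟩ := ht2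
    rw [H.inj (ht3 _ (by simp)) pa] at s1
    rw [H.inj (ht3 _ (by simp)) pc] at s2
    rw [H.inj (ht3 _ (by simp)) pe] at s3
    rw [H.inj (ht3 _ (by simp)) pg] at s4
    subst s1 s2 s3 s4
    refine ⟨t5, t6, ht, ?_⟩
    intro m hm0
    have pm : m ∈ perp D z := by
      rcases hm0 with rfl | rfl
      · exact ht3 _ (by simp)
      · exact ht3 _ (by simp)
    obtain ⟨l, hl2, hl3, hl4, hl5, hl6⟩ := hm (qφ D z m) (by
      rcases hm0 with rfl | rfl
      · exact Or.inl s5
      · exact Or.inr s6)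
    obtain ⟨u, hu, rfl, hu3⟩ := H.fact_lift hl2
    have back : ∀ x ∈ perp D z, qφ D z x ∈ u.map (qφ D z) → x ∈ u := by
      intro x hx h1
      obtain ⟨y, hy, hyx⟩ := List.mem_map.1 h1
      rw [H.inj (hu3 y hy) hx] at hyx
      rw [← hyx]; exact hy
    refine ⟨_, hu, by simp, List.mem_cons_of_mem _ (back _ ph hl3), List.mem_cons_of_mem _ (back _ p4 hl4),
      List.mem_cons_of_mem _ (back _ pm hl5), ?_⟩
    rcases hl6 with h6 | h6
    · exact Or.inl (List.mem_cons_of_mem _ (back _ pc h6))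
    · exact Or.inr (List.mem_cons_of_mem _ (back _ pe h6))
  · intro x hx xi xa xc xe xb xd
    have := P.uniq (qφ D z x) (Desc.mem hx) ((H.comm hx pi).2 xi) ((H.comm hx pa).2 xa) ((H.comm hx pc).2 xc)
      ((H.comm hx pe).2 xe) ((H.comm hx pb).2 xb) ((H.comm hx pd).2 xd)
    rw [H.inj hx pi, H.inj hx pg] at this
    exact this
  · intro l hl lz lc le lh lδ
    obtain ⟨t, ht, ht2⟩ := fact_front hl lz
    obtain ⟨p, f⟩ := H.down (t := t) ht
    have back : ∀ x ∈ perp D z, x ∈ l → qφ D z x ∈ t.map (qφ D z) := by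
      intro x hx h1
      exact List.mem_map.2 ⟨x, ((ht2 x).1 h1).resolve_left hx.2.1, rfl⟩
    exact P.nohex _ f (back _ pc lc) (back _ pe le) (back _ ph lh) (back _ p4 lδ)


end Cfsg.Agent.F3W
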